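import Cfsg.Agent.H892.Two.InvTools
import Cfsg.Agent.H30.GraphFi24A
import Cfsg.Agent.H651.Two.Row
import Cfsg.Agent.H843.N17
import Cfsg.Agent.S2081

/-!
# `Fi₂₄'`: two characters of degree divisible by `p` (helper892)

The degrees 57477 and 249458; elements of order 17 and 29 inverted by an involution of the class of `z0`; the
centralizer `5 × A₉`.
-/

set_option autoImplicit false
set_option maxRecDepth 10000

namespace Cfsg.Agent.H892.Two.Fi24

open Cfsg Cfsg.Spor Cfsg.Agent.H33 Cfsg.Agent.R08 Cfsg.Agent.R08.FiTwentyFour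
open Subgroup Cfsg.Agent.CTwoTab.FiTF
open Cfsg.Agent.H713.Spor.FiTF
open Cfsg.Agent.H30.FourTrans Cfsg.Agent.H30.IMFi24
open Cfsg.Agent.H651.Two Cfsg.Agent.H596.OneFacts

universe u

local notation "L" => Cfsg.Agent.R08.FiTwentyFour.L

/-- subgroups of the commutator subgroup -/
theorem centralizer_map {X : Fi24} (hX : X ∈ commutator Fi24) :
    (centralizer ({(⟨X, hX⟩ : Spor.Fi24')} : Set Spor.Fi24')).map (commutator Fi24).subtype =
      commutator Fi24 ⊓ centralizer (zpowers X : Set Fi24) := by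
  ext y
  constructor
  · rintro ⟨z, hz, rfl⟩
    refine ⟨z.2, ?_⟩
    show (z : Fi24) ∈ centralizer (zpowers X : Set Fi24)
    rw [cent_zpowers, mem_centralizer_singleton_iff]
    exact congrArg Subtype.val (mem_centralizer_singleton_iff.1 hz)
  · rintro ⟨h1, h2⟩
    have h2 : y ∈ centralizer (zpowers X : Set Fi24) := h2
    rw [cent_zpowers] at h2
    have h3 := mem_centralizer_singleton_iff.1 h2
    refine ⟨⟨y, h1⟩, ?_, rfl⟩
    show (⟨y, h1⟩ : Spor.Fi24') ∈ centralizer ({(⟨X, hX⟩ : Spor.Fi24')} : Set Spor.Fi24')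
    rw [mem_centralizer_singleton_iff]
    exact Subtype.ext h3

theorem card_centralizer_map {X : Fi24} (hX : X ∈ commutator Fi24) :
    Nat.card (centralizer ({(⟨X, hX⟩ : Spor.Fi24')} : Set Spor.Fi24')) =
      Nat.card ↥(commutator Fi24 ⊓ centralizer (zpowers X : Set Fi24)) := by
  rw [← centralizer_map hX]
  exact (Subgroup.card_map_of_injective (Subgroup.subtype_injective _)).symm

/-! ### Elements of order 17 -/

theorem exists_y : ∃ y s : Spor.Fi24', orderOf y = 17 ∧ Nat.card (centralizer ({y} : Set Spor.Fi24')) = 17 ∧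
    s * s = 1 ∧ s ≠ 1 ∧ s * y * s⁻¹ = y⁻¹ := by
  have hfin : Finite Fi24 := finite_Fi24
  have hfin' : Finite Spor.Fi24' := finite'
  obtain ⟨X, hX⟩ : ∃ X : Fi24, X = Cfsg.Agent.H843.D17.D.x := ⟨_, rfl⟩
  obtain ⟨w, hw⟩ : ∃ w : Fi24, w = Cfsg.Agent.Fischer.Fi24Rep.word Cfsg.Agent.H843.D17.w3 := ⟨_, rfl⟩
  have ho : orderOf X = 17 := by rw [hX]; exact Cfsg.Agent.H843.D17.order
  have h17 : X ^ 17 = 1 := by rw [← ho]; exact pow_orderOf_eq_one X
  have hXw : w * X * w⁻¹ = X ^ 3 := by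
    rw [hX, hw]
    exact Cfsg.Agent.H843.Fi24N.conj_of Cfsg.Agent.H843.D17.h3
  have hC : Nat.card (centralizer (zpowers X : Set Fi24)) = 34 := by
    rw [hX]
    exact Cfsg.Agent.H843.D17.main.2
  have hXK : X ∈ commutator Fi24 := Cfsg.Agent.H843.Fi24N.mem_commutator (by rw [ho]; decide)
  have hw2 : w ^ 2 ∈ commutator Fi24 := by
    have h2 : w ^ (commutator Fi24).index ∈ commutator Fi24 := Subgroup.pow_index_mem _ _
    rwa [index_commutator] at h2
  have hwK : w ^ 8 ∈ commutator Fi24 := by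
    rw [show w ^ 8 = (w ^ 2) ^ 4 by rw [← pow_mul]]
    exact pow_mem hw2 4
  -- powers
  have hpw : ∀ k : ℕ, w ^ k * X * (w ^ k)⁻¹ = X ^ (3 ^ k) := by
    intro k
    induction k with
    | zero => simp
    | succ k ih =>
      calc w ^ (k + 1) * X * (w ^ (k + 1))⁻¹ = w * (w ^ k * X * (w ^ k)⁻¹) * w⁻¹ := by rw [pow_succ']; group
        _ = (w * X * w⁻¹) ^ (3 ^ k) := by rw [ih, conj_pow]
        _ = X ^ (3 ^ (k + 1)) := by rw [hXw, ← pow_mul]; congr 1; ring
  have hinv : w ^ 8 * X * (w ^ 8)⁻¹ = X⁻¹ := by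
    rw [hpw 8]
    calc X ^ 3 ^ 8 = (X ^ 17) ^ 386 * X⁻¹ := by group
      _ = X⁻¹ := by rw [h17]; group
  -- the centralizer in the commutator subgroup
  have hl : Fischer.Fi24Rep.gen .l ∈ L ∩ (centralizer (zpowers X : Set Fi24) : Set Fi24) := by
    rw [hX, Cfsg.Agent.H843.D17.inter]; rfl
  have h34 := Cfsg.Agent.H843.Fi24N.half hl.2 hl.1
  rw [hC] at h34
  have hC' : Nat.card (centralizer ({(⟨X, hXK⟩ : Spor.Fi24')} : Set Spor.Fi24')) = 17 := by
    rw [card_centralizer_map]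
    omega
  have hX'o : orderOf (⟨X, hXK⟩ : Spor.Fi24') = 17 := by rw [Subgroup.orderOf_mk, ho]
  have hcent : centralizer ({(⟨X, hXK⟩ : Spor.Fi24')} : Set Spor.Fi24') = zpowers (⟨X, hXK⟩ : Spor.Fi24') := by
    symm
    apply eq_of_le_of_card_ge
    · rw [zpowers_le, mem_centralizer_singleton_iff]
    · rw [hC', Nat.card_zpowers, hX'o]
  obtain ⟨y, hy⟩ : ∃ y : Spor.Fi24', y = ⟨X, hXK⟩ := ⟨_, rfl⟩
  obtain ⟨s, hs⟩ : ∃ s : Spor.Fi24', s = ⟨w ^ 8, hwK⟩ := ⟨_, rfl⟩
  rw [← hy] at hC' hX'o hcent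
  have hsy : s * y * s⁻¹ = y⁻¹ := by
    rw [hy, hs]
    exact Subtype.ext hinv
  have hy17 : y ^ 17 = 1 := by rw [← hX'o]; exact pow_orderOf_eq_one y
  have hss : s * s = 1 := by
    have h5 : s * s ∈ zpowers y := by
      rw [← hcent, mem_centralizer_singleton_iff]
      have h6 : s * s * y * (s * s)⁻¹ = y := by
        calc s * s * y * (s * s)⁻¹ = s * (s * y * s⁻¹) * s⁻¹ := by group
          _ = (s * y * s⁻¹)⁻¹ := by rw [hsy, ← conj_inv, hsy]
          _ = y := by rw [hsy, inv_inv]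
      calc s * s * y = s * s * y * (s * s)⁻¹ * (s * s) := by group
        _ = y * (s * s) := by rw [h6]
    obtain ⟨k, hk⟩ := mem_zpowers_iff.1 h5
    have h7 : s * y ^ k * s⁻¹ = y ^ k := by rw [hk]; group
    rw [← conj_zpow, hsy] at h7
    have h8 : y ^ (2 * k) = 1 := by
      have h9 : (y⁻¹) ^ k = (y ^ k)⁻¹ := inv_zpow y k
      rw [h9] at h7
      rw [two_mul, zpow_add]
      nth_rewrite 1 [← h7]
      exact inv_mul_cancel _
    rw [← hk]
    have h10 : ((17 : ℕ) : ℤ) ∣ 2 * k := by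
      rw [← hX'o]; exact orderOf_dvd_iff_zpow_eq_one.2 h8
    have h11 : ((17 : ℕ) : ℤ) ∣ k := by
      have : IsCoprime ((17 : ℕ) : ℤ) 2 := by
        rw [Int.isCoprime_iff_gcd_eq_one]; norm_num
      exact this.dvd_of_dvd_mul_left h10
    rw [← hX'o] at h11
    exact orderOf_dvd_iff_zpow_eq_one.1 h11
  refine ⟨y, s, hX'o, hC', hss, ?_, hsy⟩
  rintro h1
  rw [h1, one_mul, inv_one, mul_one] at hsy
  have h2 : y ^ 2 = 1 := by
    rw [pow_two]
    nth_rewrite 2 [hsy]
    exact mul_inv_cancel y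
  have h3 := orderOf_dvd_of_pow_eq_one h2
  rw [hX'o] at h3
  norm_num at h3

/-- an involution inverting an element of odd order `n ∤ 60` is conjugate to `z0` -/
theorem conj_z0' {n : ℕ} (hn : Odd n) (h60 : ¬ n ∣ 60) {x t : Spor.Fi24'} (hx : orderOf x = n) (ht : t * t = 1)
    (ht1 : t ≠ 1) (hinv : t * x * t⁻¹ = x⁻¹) : IsConj z0 t := by
  have ho : orderOf t = 2 := orderOf_eq_prime (by rw [pow_two, ht]) ht1
  rcases classes t ho with ⟨a, b, P, hab⟩ | ⟨g, h⟩
  · exfalso
    have hxn : x ^ n = 1 := by rw [← hx]; exact pow_orderOf_eq_one x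
    obtain ⟨j, hj⟩ := Cfsg.Agent.H672.SC.exists_two_mul hn
    have hxt : x * t = x ^ j * t * (x ^ j)⁻¹ :=
      Cfsg.Agent.H672.SC.mul_eq_conj (n := n) hinv hxn hj
    have h1 : ((x : Spor.Fi24') : Fi24) * (a * b) = ((x ^ j : Spor.Fi24') : Fi24) * (a * b) * ((x ^ j : Spor.Fi24') : Fi24)⁻¹ := by
      have h2 := congrArg Subtype.val hxt
      push_cast at h2 ⊢
      rwa [hab] at h2
    set y : Fi24 := ((x ^ j : Spor.Fi24') : Fi24) with hy
    have cab : a * b = b * a := P.ab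
    have aa : a * a = 1 := FiTwentyFour.sq P.ha
    have bb : b * b = 1 := FiTwentyFour.sq P.hb
    have h3 := tr.pow_sixty (FiTwentyFour.conj P.ha y) (FiTwentyFour.conj P.hb y) P.ha P.hb
      (by
        calc y * a * y⁻¹ * (y * b * y⁻¹) = y * (a * b) * y⁻¹ := by group
          _ = y * (b * a) * y⁻¹ := by rw [cab]
          _ = y * b * y⁻¹ * (y * a * y⁻¹) := by group) cab
    have h4 : y * a * y⁻¹ * (y * b * y⁻¹) * (a * b) = ((x : Spor.Fi24') : Fi24) := by
      calc y * a * y⁻¹ * (y * b * y⁻¹) * (a * b) = (y * (a * b) * y⁻¹) * (a * b) := by group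
        _ = ((x : Spor.Fi24') : Fi24) * (a * (b * a) * b) := by rw [← h1]; group
        _ = ((x : Spor.Fi24') : Fi24) * ((a * a) * (b * b)) := by rw [← cab]; group
        _ = _ := by rw [aa, bb, one_mul, mul_one]
    rw [h4] at h3
    have h5 : x ^ 60 = 1 := Subtype.ext (by push_cast; exact h3)
    have h6 := orderOf_dvd_of_pow_eq_one h5
    rw [hx] at h6
    exact h60 h6
  · exact isConj_iff.2 ⟨g, h.symm⟩

/-- the centralizer of `z0` -/
theorem card_dvd {t : Spor.Fi24'} (h : IsConj z0 t) : Nat.card (centralizer ({t} : Set Spor.Fi24')) ∣ 321052999680 := by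
  have := finite'
  rw [Cfsg.Agent.Blocks.SylowIn.card_centralizer_of_isConj h, ← Cfsg.Agent.KFacts.FiTF.Order.card]
  let f : ↥(centralizer ({z0} : Set Spor.Fi24')) →* ↥(centralizer ({KFacts.FiTF.Defs.z} : Set Spor.Fi24)) :=
    ((commutator Fi24).subtype.comp (centralizer ({z0} : Set Spor.Fi24')).subtype).codRestrict _ (by
      intro x
      rw [mem_centralizer_singleton_iff]
      exact congrArg Subtype.val (mem_centralizer_singleton_iff.1 x.2))
  refine Subgroup.card_dvd_of_injective f ?_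
  intro x y h
  have h1 := (Subtype.mk.injEq _ _ _ _).mp h
  exact Subtype.ext (Subtype.ext h1)

theorem not_dvd {t : Spor.Fi24'} (h : IsConj z0 t) {p k : ℕ} (hn : ¬ p ^ k ∣ 321052999680 ^ 2) :
    ¬ p ^ k ∣ Nat.card (centralizer ({t} : Set Spor.Fi24')) ^ 2 := fun hd =>
  hn (hd.trans (pow_dvd_pow_of_dvd (card_dvd h) 2))

/-! ### The prime 5 -/

section Five

open Cfsg.Agent.H841.Five Cfsg.Agent.LThreeFi24.FiveConj Cfsg.Agent.LThreeFi24.SNine

theorem three_five : 3 ≤ ND 5 Spor.Fi24' := by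
  have hfin : Finite Fi24 := finite_Fi24
  have hfin' : Finite Spor.Fi24' := finite'
  have h5 : Nat.Prime 5 := by norm_num
  have : Fact (Nat.Prime 5) := ⟨h5⟩
  set D : Subgroup Fi24 := zpowers y0 with hD
  have hmem : ∀ n : Fi24, n ∈ centralizer (D : Set Fi24) ↔ n * y0 = y0 * n := by
    intro n
    rw [hD, cent_zpowers, mem_centralizer_singleton_iff]
  have hPhi : Phi.range ≤ centralizer (D : Set Fi24) := by
    rintro _ ⟨σ, rfl⟩
    rw [hmem]
    exact (Phi_comm_y0 σ).eq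
  set C := centralizer (D : Set Fi24) with hC
  set N : Subgroup C := Phi.range.subgroupOf C with hN
  have hNn : N.Normal := by
    constructor
    rintro n hn ⟨c, hc⟩
    obtain ⟨i, σ, -, -, rfl⟩ := exists_of_comm ((hmem c).1 hc)
    obtain ⟨τ, hτ⟩ := mem_subgroupOf.1 hn
    rw [hN, mem_subgroupOf]
    refine ⟨σ * τ * σ⁻¹, ?_⟩
    push_cast
    rw [← hτ, map_mul, map_mul, map_inv]
    have h1 : Commute (y0 ^ i) (Phi σ * Phi τ * (Phi σ)⁻¹) := by
      have := comm_y0_pow_Phi i (σ * τ * σ⁻¹)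
      rwa [map_mul, map_mul, map_inv] at this
    calc Phi σ * Phi τ * (Phi σ)⁻¹ = (y0 ^ i * (Phi σ * Phi τ * (Phi σ)⁻¹)) * (y0 ^ i)⁻¹ := by
          rw [h1.eq]; group
      _ = y0 ^ i * Phi σ * Phi τ * (y0 ^ i * Phi σ)⁻¹ := by group
  have hIM : IM 5 C := by
    apply IM.of_normal N
    have e1 : N ≃* Phi.range := subgroupOfEquivOfLe hPhi
    have e2 : Equiv.Perm (Fin 9) ≃* Phi.range := MonoidHom.ofInjective Phi_injective
    exact im5_S9.of_equiv (e1.trans e2.symm)
  -- the commutator subgroup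
  have hy0 : y0 ∈ commutator Fi24 := Cfsg.Agent.H843.Fi24N.mem_commutator (by rw [orderOf_y0]; decide)
  have hIM' : IM 5 ((commutator Fi24).subgroupOf C) := by
    refine IM_of_le_index h5 _ ?_ hIM
    have h1 : ((commutator Fi24).subgroupOf C).index ∣ 2 := by
      rw [← index_commutator]
      exact Subgroup.relIndex_dvd_index_of_normal _ _
    intro h2
    exact absurd (h2.trans h1) (by norm_num)
  have hox : orderOf (⟨y0, hy0⟩ : Spor.Fi24') = 5 := by rw [Subgroup.orderOf_mk, orderOf_y0]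
  refine three_le_of_cent hox (by norm_num) ?_ ?_ (by rw [Cfsg.Agent.H30.IMFi24.card_F]; norm_num)
  · have e0 : ↥(centralizer ({(⟨y0, hy0⟩ : Spor.Fi24')} : Set Spor.Fi24')) ≃*
        ↥((centralizer ({(⟨y0, hy0⟩ : Spor.Fi24')} : Set Spor.Fi24')).map (commutator Fi24).subtype) :=
      Subgroup.equivMapOfInjective _ _ (Subgroup.subtype_injective _)
    have e1 := e0.trans (MulEquiv.subgroupCongr (centralizer_map hy0))
    have e2 : ↥((commutator Fi24 ⊓ C).subgroupOf C) ≃* ↥(commutator Fi24 ⊓ C) := subgroupOfEquivOfLe inf_le_right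
    have e3 : ↥((commutator Fi24).subgroupOf C) ≃* ↥((commutator Fi24 ⊓ C).subgroupOf C) :=
      MulEquiv.subgroupCongr (Subgroup.inf_subgroupOf_right _ _).symm
    exact hIM'.of_equiv (e1.trans (e3.trans e2).symm)
  · intro h
    have h1 := h.trans (Subgroup.card_subgroup_dvd_card _)
    rw [Cfsg.Agent.H30.IMFi24.card_F] at h1
    revert h1
    norm_num

end Five

/-! ### The prime 13 -/

theorem two_thirteen : Two 13 Spor.Fi24' := by
  classical
  have hfin' : Finite Spor.Fi24' := finite'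
  have := Cfsg.Agent.Characters.Core.finite_irr (G := Spor.Fi24')
  have := Fintype.ofFinite (IrrCharacter Spor.Fi24')
  have hp13 : Fact (Nat.Prime 13) := ⟨by norm_num⟩
  have hp17 : Fact (Nat.Prime 17) := ⟨by norm_num⟩
  have hp29 : Fact (Nat.Prime 29) := ⟨by norm_num⟩
  have hs : IsSimpleGroup Spor.Fi24' := FiTwentyFour.isFi24'.1
  obtain ⟨x, t, hx, hC, ht, ht1, hinv⟩ := Cfsg.Agent.H30.IMFi24.exists_x
  obtain ⟨y, s, hy, hD, hs2, hs1, hinv'⟩ := exists_y
  have hzt : IsConj z0 t := conj_z0' (n := 29) (by decide) (by norm_num) hx ht ht1 hinv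
  have hzs : IsConj z0 s := conj_z0' (n := 17) (by decide) (by norm_num) hy hs2 hs1 hinv'
  have hord : ∀ {r : ℕ} [Fact r.Prime] (P : Sylow r Spor.Fi24'), Nat.card P = r → ∀ z ∈ P, z ≠ 1 → orderOf z = r := by
    intro r hr P hP z hz hz1
    have h1 : orderOf (⟨z, hz⟩ : P) ∣ Nat.card P := orderOf_dvd_natCard _
    rw [hP, Subgroup.orderOf_mk] at h1
    rcases (Nat.dvd_prime hr.out).1 h1 with h | h
    · exact absurd (orderOf_eq_one_iff.1 h) hz1
    · exact h
  obtain ⟨P, W, hP, he, hW, hWc⟩ := Cfsg.Agent.H653.Sieve.exists_col (G := Spor.Fi24') Cfsg.Agent.H30.GraphFi24.not_comm (p := 17)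
    (N := 1255205709190661721292800) Cfsg.Agent.H30.IMFi24.card_F hy (k := 1) (by rw [hD]) 16 1
    [(0, 0), (1, 1), (16, -1)] 0 false (by decide +kernel)
  obtain ⟨Q, V, hQ, hf, hV, hVc⟩ := Cfsg.Agent.H653.Sieve.exists_col (G := Spor.Fi24') Cfsg.Agent.H30.GraphFi24.not_comm (p := 29)
    (N := 1255205709190661721292800) Cfsg.Agent.H30.IMFi24.card_F hx (k := 1) (by rw [hC]) 14 2
    [(0, 0), (1, 2), (28, -2), (14, -1), (15, 1)] 0 false (by decide +kernel)
  refine two_of_ratio (p := 13) (t := t) (t₁ := 1) (t₂ := 2) (n₁ := 17) (n₂ := 29)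
    (Cfsg.Agent.H30.IMFi24.im_fi24 (S := Spor.Fi24') ⟨MulEquiv.refl _⟩ (by rw [Cfsg.Agent.H30.IMFi24.card_F]; norm_num))
    (by rw [Cfsg.Agent.H30.IMFi24.card_F]; norm_num) ht ?_ ?_ P Q he hf (by rw [hP]) (by rw [hQ]) hW hV ?_ ?_ (by norm_num) ?_
  · intro h
    have h1 := h.trans (card_dvd hzt)
    revert h1
    norm_num
  · intro σ
    refine hzt.symm.trans (conj_z0' (n := 29) (x := σ x) (by decide) (by norm_num) ?_ ?_ ?_ ?_)
    · rw [MulEquiv.orderOf_eq, hx]
    · rw [← map_mul, ht, map_one]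
    · intro h
      exact ht1 (σ.injective (by rw [h, map_one]))
    · rw [← map_inv, ← map_mul, ← map_mul, hinv, map_inv]
  · intro z hz hz1
    exact npairs_all (by norm_num) hs2 hinv' hy hD (hzt.symm.trans hzs) (hord P hP z hz hz1)
  · intro z hz hz1
    exact npairs_all (by norm_num) ht hinv hx hC (IsConj.refl t) (hord Q hQ z hz hz1)
  · intro χ hχ
    have h1 := hWc.1 χ
    have h2 := hVc.1 χ
    simp only [List.mem_cons, Prod.mk.injEq, List.not_mem_nil, or_false] at h1 h2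
    rcases h1 with h | h | h <;> rcases h2 with h' | h' | h' | h' | h' <;> rw [h.2, h'.2] at hχ <;> rw [h.2] <;>
      revert hχ <;> norm_num

theorem two {p : ℕ} (hp : p.Prime) (hd : p ∣ Nat.card Spor.Fi24') : Two p Spor.Fi24' := by
  have hfin' : Finite Spor.Fi24' := finite'
  obtain ⟨d1, d2⟩ := Cfsg.Agent.H30.GraphFi24.exists_deg
  obtain ⟨x, t, hx, hC, ht, ht1, hinv⟩ := Cfsg.Agent.H30.IMFi24.exists_x
  obtain ⟨y, s, hy, hD, hs2, hs1, hinv'⟩ := exists_y
  have hzt : IsConj z0 t := conj_z0' (n := 29) (by decide) (by norm_num) hx ht ht1 hinv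
  have hzs : IsConj z0 s := conj_z0' (n := 17) (by decide) (by norm_num) hy hs2 hs1 hinv'
  have hG := Cfsg.Agent.H30.IMFi24.card_F
  have hO : Nat.card (Out Spor.Fi24') ≤ 2 := (S2081.result).le
  have h0 := Cfsg.Agent.H30.GraphFi24.mem_primes hp hd
  have := Fact.mk hp
  simp only [List.mem_cons, List.not_mem_nil, or_false] at h0
  rcases h0 with rfl | rfl | rfl | rfl | rfl | rfl | rfl | rfl | rfl
  · exact two_of_real (x := x) (by rintro rfl; rw [orderOf_one] at hx; omega) (isConj_iff.2 ⟨t, hinv⟩)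
      (by rw [hC]; decide) (r := 29) (by norm_num) hx (by rw [hG]; norm_num) d2 (by norm_num) (by norm_num)
  · obtain ⟨χ, hχ⟩ := Cfsg.Agent.H672.SC.exists_pow_dvd_of_inverted (p := 3) (k := 16) (m := 1) ht hinv
      (by rw [hC]; decide) (by rw [hC]; norm_num) (by rw [hG]; norm_num) (by
        intro h
        have h1 := h.trans (Nat.mul_dvd_mul_left (3 ^ 1) (pow_dvd_pow_of_dvd (card_dvd hzt) 2))
        revert h1
        norm_num)
    exact two_of_deg_dvd d1 ⟨χ, hχ⟩ (by norm_num) (by norm_num) (by norm_num)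
  · exact two_of_three hO three_five
  · exact two_of_inverted (p := 7) (k := 3) hs2 hinv' (by rw [hD]; decide) (by rw [hD]; norm_num)
      (by rw [hG]; norm_num) (not_dvd hzs (by norm_num)) (r := 17) (by norm_num) hy (by rw [hG]; norm_num) d1
      (by norm_num) (by norm_num)
  · exact two_of_inverted (p := 11) (k := 1) ht hinv (by rw [hC]; decide) (by rw [hC]; norm_num)
      (by rw [hG]; norm_num) (not_dvd hzt (by norm_num)) (r := 29) (by norm_num) hx (by rw [hG]; norm_num) d2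
      (by norm_num) (by norm_num)
  · exact two_thirteen
  · exact two_of_degs d1 d2 (by norm_num) (by norm_num) (by norm_num)
  · exact two_of_degs d1 d2 (by norm_num) (by norm_num) (by norm_num)
  · exact two_of_inverted (p := 29) (k := 1) hs2 hinv' (by rw [hD]; decide) (by rw [hD]; norm_num)
      (by rw [hG]; norm_num) (not_dvd hzs (by norm_num)) (r := 17) (by norm_num) hy (by rw [hG]; norm_num) d2
      (by norm_num) (by norm_num)

/-- **The row `Fi₂₄'`.** -/
theorem two_fi24 {S : Type u} [Group S] (h : Spor.IsoFi24' S) {p : ℕ} [hp : Fact p.Prime]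
    (hd : p ∣ Nat.card S) : TwoOr p S :=
  twoOr_of h hd (two hp.out)

end Cfsg.Agent.H892.Two.Fi24
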