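import Cfsg.Agent.H651.Two.Inv
import Cfsg.Agent.H672.SC
import Cfsg.Agent.H665.EvenDegree
import Cfsg.Agent.H729.Norm
import Cfsg.Agent.S0165

/-!
# Inverted elements and characters of degree divisible by `p` (helper892)

* `exists_pow_dvd_ne_zero` : the involution `t` inverts `g`, `|C(g)|` odd and prime to `p`, `p ^ k` divides `|G|` but
  not `p ^ m |C(t)|²`: some `χ` with `p ^ (m + 1) ∣ χ(1)` does not vanish at `g`;
* `exists_even_ne_zero` : `x ≠ 1` real, `|C(x)|` odd: some `χ` of even degree does not vanish at `x`;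
* `not_dvd_of_ne_zero` : `χ(x) ≠ 0`, `x` of order `r`, `r ∥ |G|`: `r ∤ χ(1)`;
* `two_of_inverted`, `two_of_real` : a known degree divisible by `p` and by `r`;
* `two_of_ratio` : two self-centralizing primes inverted by the same class of involutions.
-/

set_option autoImplicit false
set_option linter.unusedSectionVars false

open Cfsg Subgroup
open scoped ComplexConjugate

namespace Cfsg.Agent.H892.Two

open Cfsg.Agent.H651.Two Cfsg.Agent.H596.OneFacts Cfsg.Agent.H33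
open Cfsg.Agent.H672.SC Cfsg.Agent.Characters.Core Cfsg.Agent.H653.Sieve

universe u

variable {G : Type u} [Group G]

/-- a character which does not vanish at an element of order `r`, `r ∥ |G|` -/
theorem not_dvd_of_ne_zero [Finite G] {r : ℕ} (hr : r.Prime) (h1 : r ∣ Nat.card G) (h2 : ¬ r ^ 2 ∣ Nat.card G)
    {χ : IrrCharacter G} {x : G} (hx : orderOf x = r) (h : (χ : G → ℂ) x ≠ 0) :
    ¬ r ∣ charDegree (χ : G → ℂ) := by
  intro hd
  apply h
  obtain ⟨n, ρ, hρ, hχ⟩ := χ.2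
  rw [← hχ]
  refine S0165.result ρ r 1 hr (by rwa [pow_one]) h2 ?_ x (by rw [hx])
  have h3 : (χ : G → ℂ) 1 = (Module.finrank ℂ (Fin n → ℂ) : ℂ) := by rw [← hχ]; exact Representation.char_one ρ
  have h4 : charDegree (χ : G → ℂ) = Module.finrank ℂ (Fin n → ℂ) := H670.PSing.charDegree_eq_of h3
  rwa [h4, ← pow_one r] at hd

/-- If the characters of degree divisible by `p ^ (m + 1)` vanish at `g`. -/
theorem exists_coprime_mul_of_vanish [Finite G] {p : ℕ} [hp : Fact p.Prime] {m : ℕ} (a b g : G)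
    (h : ∀ χ : IrrCharacter G, (χ : G → ℂ) g ≠ 0 → ¬ p ^ (m + 1) ∣ charDegree (χ : G → ℂ)) :
    ∃ c : ℕ, ¬ p ∣ c ∧ Nat.card G ∣ c * (p ^ m * (npairs a b g *
      (Nat.card (Subgroup.centralizer ({a} : Set G)) *
        Nat.card (Subgroup.centralizer ({b} : Set G))))) := by
  classical
  have : Finite (IrrCharacter G) := finite_irr
  have : Fintype (IrrCharacter G) := Fintype.ofFinite _
  have hdeg : ∀ χ : IrrCharacter G, (χ : G → ℂ) 1 = (charDegree (χ : G → ℂ) : ℂ) := fun χ =>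
    Cfsg.Agent.Blocks.Basic.irr_one_eq_charDegree χ.2
  have hpos : ∀ χ : IrrCharacter G, charDegree (χ : G → ℂ) ≠ 0 := fun χ =>
    (Cfsg.Agent.Blocks.Basic.charDegree_pos χ.2).ne'
  -- the `p'`-parts
  let d : IrrCharacter G → ℕ := fun χ => charDegree (χ : G → ℂ) / p ^ (charDegree (χ : G → ℂ)).factorization p
  have hd : ∀ χ : IrrCharacter G, (χ : G → ℂ) g ≠ 0 → charDegree (χ : G → ℂ) ∣ p ^ m * d χ := by
    intro χ hχ
    have h1 : p ^ (charDegree (χ : G → ℂ)).factorization p * d χ = charDegree (χ : G → ℂ) :=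
      Nat.ordProj_mul_ordCompl_eq_self _ _
    have h2 : (charDegree (χ : G → ℂ)).factorization p ≤ m := by
      by_contra hcon
      push Not at hcon
      exact h χ hχ ((pow_dvd_pow p hcon).trans (Nat.ordProj_dvd _ _))
    conv_lhs => rw [← h1]
    exact Nat.mul_dvd_mul (pow_dvd_pow p h2) dvd_rfl
  have hdp : ∀ χ, ¬ p ∣ d χ := fun χ => Nat.not_dvd_ordCompl hp.out (hpos χ)
  refine ⟨∏ χ : IrrCharacter G, d χ, ?_, ?_⟩
  · intro hd'
    obtain ⟨χ, -, hχ⟩ := (Prime.dvd_finsetProd_iff hp.out.prime _).1 hd'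
    exact hdp χ hχ
  · set c := ∏ χ : IrrCharacter G, d χ with hc
    apply Cfsg.Agent.Characters.DegreeBounds.nat_dvd_of_isIntegral_div Nat.card_pos.ne'
    have h1 := Cfsg.Agent.Characters.ClassMul.card_class_mul a b g
    have hG : (Nat.card G : ℂ) ≠ 0 := by exact_mod_cast Nat.card_pos.ne'
    have ha : (Nat.card (Subgroup.centralizer ({a} : Set G)) : ℂ) *
        ((Subgroup.centralizer ({a} : Set G)).index : ℂ) = (Nat.card G : ℂ) := by
      exact_mod_cast Subgroup.card_mul_index _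
    have hb : (Nat.card (Subgroup.centralizer ({b} : Set G)) : ℂ) *
        ((Subgroup.centralizer ({b} : Set G)).index : ℂ) = (Nat.card G : ℂ) := by
      exact_mod_cast Subgroup.card_mul_index _
    set S : ℂ := ∑ χ : IrrCharacter G,
        (χ : G → ℂ) a * (χ : G → ℂ) b * conj ((χ : G → ℂ) g) / (χ : G → ℂ) 1 with hS
    have hcS : IsIntegral ℤ (((c * p ^ m : ℕ) : ℂ) * S) := by
      rw [hS, Finset.mul_sum]
      apply IsIntegral.sum
      intro χ _
      by_cases h0 : (χ : G → ℂ) g = 0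
      · rw [h0, map_zero, mul_zero, zero_div, mul_zero]
        exact isIntegral_zero
      obtain ⟨e, he⟩ : charDegree (χ : G → ℂ) ∣ c * p ^ m := by
        rw [mul_comm]
        refine (hd χ h0).trans (Nat.mul_dvd_mul dvd_rfl ?_)
        rw [hc]
        exact Finset.dvd_prod_of_mem _ (Finset.mem_univ χ)
      have hne : (charDegree (χ : G → ℂ) : ℂ) ≠ 0 := by exact_mod_cast hpos χ
      have : ((c * p ^ m : ℕ) : ℂ) *
          ((χ : G → ℂ) a * (χ : G → ℂ) b * conj ((χ : G → ℂ) g) / (χ : G → ℂ) 1) =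
          (e : ℂ) * ((χ : G → ℂ) a * (χ : G → ℂ) b * conj ((χ : G → ℂ) g)) := by
        rw [hdeg χ, he]
        push_cast
        field_simp
      rw [this]
      have hχ : IsCharacter G (χ : G → ℂ) := isIrr_isCharacter χ.2
      refine IsIntegral.mul ?_ (((Characters.GaloisBasic.isIntegral_apply hχ a).mul
        (Characters.GaloisBasic.isIntegral_apply hχ b)).mul ?_)
      · have h3 : IsIntegral ℤ (algebraMap ℤ ℂ (e : ℤ)) := isIntegral_algebraMap
        simpa using h3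
      · exact (Characters.GaloisBasic.isIntegral_apply hχ g).map
          ((Complex.conjAe : ℂ →ₐ[ℝ] ℂ).restrictScalars ℤ)
    have key : ((c * (p ^ m * (npairs a b g * (Nat.card (Subgroup.centralizer ({a} : Set G)) *
        Nat.card (Subgroup.centralizer ({b} : Set G))))) : ℕ) : ℂ) / (Nat.card G : ℂ) =
        ((c * p ^ m : ℕ) : ℂ) * S := by
      have h2 : (npairs a b g : ℂ) = ((Subgroup.centralizer ({a} : Set G)).index : ℂ) *
        ((Subgroup.centralizer ({b} : Set G)).index : ℂ) / (Nat.card G : ℂ) * S := h1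
      push_cast
      rw [h2]
      rw [← ha]
      rw [← ha] at hG
      have hb' := hb
      rw [← ha] at hb'
      have hca : (Nat.card (Subgroup.centralizer ({a} : Set G)) : ℂ) ≠ 0 := left_ne_zero_of_mul hG
      have hia : ((Subgroup.centralizer ({a} : Set G)).index : ℂ) ≠ 0 := right_ne_zero_of_mul hG
      field_simp
      linear_combination (c : ℂ) * (p : ℂ) ^ m * S * hb'
    rw [key]
    exact hcS

/-- **A degree divisible by `p ^ (m + 1)` of a character which does not vanish at `g`.** -/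
theorem exists_pow_dvd_ne_zero [Finite G] {p : ℕ} [hp : Fact p.Prime] {t g : G} (ht : t * t = 1)
    (hg : t * g * t⁻¹ = g⁻¹)
    (hodd : Odd (Nat.card (Subgroup.centralizer ({g} : Set G))))
    (hpg : ¬ p ∣ Nat.card (Subgroup.centralizer ({g} : Set G))) {k m : ℕ}
    (hk : p ^ k ∣ Nat.card G)
    (h : ¬ p ^ k ∣ p ^ m * Nat.card (Subgroup.centralizer ({t} : Set G)) ^ 2) :
    ∃ χ : IrrCharacter G, p ^ (m + 1) ∣ charDegree (χ : G → ℂ) ∧ (χ : G → ℂ) g ≠ 0 := by
  by_contra hcon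
  push Not at hcon
  apply h
  obtain ⟨c, hc, hd⟩ := exists_coprime_mul_of_vanish (p := p) (m := m) t t g (fun χ h0 hd => h0 (hcon χ hd))
  have h0 : (p ^ k).Coprime c := Nat.Coprime.pow_left _ ((Nat.Prime.coprime_iff_not_dvd hp.out).2 hc)
  have hd' := h0.dvd_of_dvd_mul_left (hk.trans hd)
  have h1 : ¬ p ∣ npairs t t g := fun h2 => hpg (h2.trans (npairs_dvd ht hg hodd))
  have h2 : (p ^ k).Coprime (npairs t t g) :=
    Nat.Coprime.pow_left _ ((Nat.Prime.coprime_iff_not_dvd hp.out).2 h1)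
  rw [mul_left_comm] at hd'
  rw [sq]
  exact h2.dvd_of_dvd_mul_left hd'

/-- **An even degree of a character which does not vanish at `x`.** -/
theorem exists_even_ne_zero {G : Type*} [Group G] [Finite G] {x : G} (hx : x ≠ 1)
    (hreal : IsConj x x⁻¹) (hodd : Odd (Nat.card (Subgroup.centralizer ({x} : Set G)))) :
    ∃ χ : IrrCharacter G, Even (charDegree (χ : G → ℂ)) ∧ (χ : G → ℂ) x ≠ 0 := by
  classical
  by_contra hcon
  push Not at hcon
  have := Fintype.ofFinite G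
  have : Finite (IrrCharacter G) := finite_irr
  have := Fintype.ofFinite (IrrCharacter G)
  -- the values
  have hint : ∀ χ : IrrCharacter G, IsIntegral ℤ ((χ : G → ℂ) x) := by
    intro χ
    obtain ⟨n, ρ, -, h⟩ := χ.2
    rw [← h]
    exact Cfsg.Agent.Characters.Values.character_isIntegral ρ x
  let a : IrrCharacter G → integralClosure ℤ ℂ := fun χ => ⟨(χ : G → ℂ) x, hint χ⟩
  have ha : ∀ χ, algebraMap (integralClosure ℤ ℂ) ℂ (a χ) = (χ : G → ℂ) x := fun χ => rfl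
  have hinj : Function.Injective (algebraMap (integralClosure ℤ ℂ) ℂ) := Subtype.val_injective
  have hconj : ∀ χ : IrrCharacter G, conj ((χ : G → ℂ) x) = (χ : G → ℂ) x := by
    intro χ
    obtain ⟨c, hc⟩ := isConj_iff.1 hreal
    rw [← isCharacter_apply_inv (isIrr_isCharacter χ.2), ← hc]
    exact isIrr_isClassFunction χ.2 x c
  have h1 : ∑ χ : IrrCharacter G, (charDegree (χ : G → ℂ) : integralClosure ℤ ℂ) * a χ = 0 := by
    apply hinj
    have h := Cfsg.Agent.S0145.sum_irr_mul_conj (G := G) 1 x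
    rw [if_neg (fun h => hx (by
      obtain ⟨c, hc⟩ := isConj_iff.1 h
      rw [← hc]; group))] at h
    rw [map_sum, map_zero, ← h]
    refine Finset.sum_congr rfl fun χ _ => ?_
    rw [map_mul, ha, hconj, map_natCast, Cfsg.Agent.Blocks.Basic.irr_one_eq_charDegree χ.2]
  have h2 : ∑ χ : IrrCharacter G, a χ ^ 2 =
      (Nat.card (Subgroup.centralizer ({x} : Set G)) : integralClosure ℤ ℂ) := by
    apply hinj
    have h := Cfsg.Agent.S0145.sum_irr_mul_conj (G := G) x x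
    rw [if_pos (IsConj.refl x)] at h
    rw [map_sum, map_natCast, ← h]
    refine Finset.sum_congr rfl fun χ _ => ?_
    rw [map_pow, ha, hconj, pow_two]
  -- reduce modulo two
  let I : Ideal (integralClosure ℤ ℂ) := Ideal.span {2}
  let q := Ideal.Quotient.mk I
  have h20 : q 2 = 0 := Ideal.Quotient.eq_zero_iff_mem.2 (Ideal.mem_span_singleton_self 2)
  have h10 : q 1 ≠ 0 := by
    intro h
    exact H665.EvenDegree.not_two_dvd_one (Ideal.mem_span_singleton.1 (Ideal.Quotient.eq_zero_iff_mem.1 h))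
  have h2' : (2 : integralClosure ℤ ℂ ⧸ I) = 0 := by rw [← h20]; rfl
  have hodd' : ∀ n : ℕ, Odd n → ((n : ℕ) : integralClosure ℤ ℂ ⧸ I) = 1 := by
    rintro n ⟨k, rfl⟩
    push_cast
    rw [h2', zero_mul, zero_add]
  have hnt : Nontrivial (integralClosure ℤ ℂ ⧸ I) := ⟨⟨q 1, 0, h10⟩⟩
  have hch : CharP (integralClosure ℤ ℂ ⧸ I) 2 := CharTwo.of_one_ne_zero_of_two_eq_zero one_ne_zero h2'
  have e1 : ∑ χ : IrrCharacter G, q (a χ) = 0 := by
    have h := congrArg q h1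
    rw [map_sum, map_zero] at h
    rw [← h]
    refine Finset.sum_congr rfl fun χ _ => ?_
    rw [map_mul, map_natCast]
    by_cases hev : Even (charDegree (χ : G → ℂ))
    · have h0 : a χ = 0 := Subtype.ext (hcon χ hev)
      rw [h0, map_zero, mul_zero]
    · rw [hodd' _ (Nat.not_even_iff_odd.1 hev), one_mul]
  have e2 : ∑ χ : IrrCharacter G, q (a χ) ^ 2 = 1 := by
    have h := congrArg q h2
    rw [map_sum, map_natCast, hodd' _ hodd] at h
    rw [← h]
    refine Finset.sum_congr rfl fun χ _ => ?_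
    rw [map_pow]
  have e3 : (∑ χ : IrrCharacter G, q (a χ)) ^ 2 = ∑ χ : IrrCharacter G, q (a χ) ^ 2 := by
    have : Fact (Nat.Prime 2) := ⟨Nat.prime_two⟩
    exact sum_pow_char 2 _ _
  rw [e1, e2] at e3
  exact one_ne_zero (e3.symm.trans (by ring))

/-! ### A known degree -/

/-- A known degree divisible by `p r`, `g` of order `r ∥ |G|` inverted by `t`. -/
theorem two_of_inverted [Finite G] {p : ℕ} [hp : Fact p.Prime] {t g : G} (ht : t * t = 1)
    (hg : t * g * t⁻¹ = g⁻¹)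
    (hodd : Odd (Nat.card (Subgroup.centralizer ({g} : Set G))))
    (hpg : ¬ p ∣ Nat.card (Subgroup.centralizer ({g} : Set G))) {k : ℕ}
    (hk : p ^ k ∣ Nat.card G)
    (h : ¬ p ^ k ∣ Nat.card (Subgroup.centralizer ({t} : Set G)) ^ 2)
    {r : ℕ} (hr : r.Prime) (hgr : orderOf g = r) (hr2 : ¬ r ^ 2 ∣ Nat.card G)
    {a : ℕ} (ha : ∃ χ : IrrCharacter G, charDegree (χ : G → ℂ) = a) (hpa : p ∣ a) (hra : r ∣ a) : Two p G := by
  obtain ⟨χ, hχ, hχg⟩ := exists_pow_dvd_ne_zero (m := 0) ht hg hodd hpg hk (by rwa [pow_zero, one_mul])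
  obtain ⟨α, hα⟩ := ha
  rw [zero_add, pow_one] at hχ
  refine two_of_degree_ne α χ (hα ▸ hpa) hχ ?_
  intro he
  refine not_dvd_of_ne_zero hr (by rw [← hgr]; exact orderOf_dvd_natCard g) hr2 hgr hχg ?_
  rw [← he, hα]
  exact hra

/-- The prime 2: a known degree divisible by `2 r`, `x` real of order `r ∥ |G|`. -/
theorem two_of_real [Finite G] {x : G} (hx : x ≠ 1) (hreal : IsConj x x⁻¹)
    (hodd : Odd (Nat.card (Subgroup.centralizer ({x} : Set G))))
    {r : ℕ} (hr : r.Prime) (hxr : orderOf x = r) (hr2 : ¬ r ^ 2 ∣ Nat.card G)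
    {a : ℕ} (ha : ∃ χ : IrrCharacter G, charDegree (χ : G → ℂ) = a) (hpa : 2 ∣ a) (hra : r ∣ a) : Two 2 G := by
  obtain ⟨χ, hχ, hχg⟩ := exists_even_ne_zero hx hreal hodd
  obtain ⟨α, hα⟩ := ha
  refine two_of_degree_ne α χ (hα ▸ hpa) hχ.two_dvd ?_
  intro he
  refine not_dvd_of_ne_zero hr (by rw [← hxr]; exact orderOf_dvd_natCard x) hr2 hxr hχg ?_
  rw [← he, hα]
  exact hra

/-! ### Two self-centralizing primes -/

/-- the value at an involution is an integer -/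
theorem exists_int_invol {χ : G → ℂ} (hχ : IsCharacter G χ) {t : G} (ht : t * t = 1) : ∃ z : ℤ, χ t = z := by
  obtain ⟨m, h1, h2, -⟩ := H729.Norm.exists_mult hχ (p := 2) (by norm_num) (by rw [pow_two, ht])
  rw [Finset.sum_range_succ, Finset.sum_range_succ, Finset.sum_range_zero, zero_add] at h1
  rw [Finset.sum_range_succ, Finset.sum_range_succ, Finset.sum_range_zero, zero_add, pow_zero, pow_one, ← h1] at h2
  refine ⟨(m 0 : ℤ) - m 1, ?_⟩
  push_cast
  push_cast at h2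
  linear_combination h2

/-- the number of pairs -/
theorem npairs_eq [Finite G] {t g : G} (ht : t * t = 1) (hg : t * g * t⁻¹ = g⁻¹)
    {r : ℕ} (hr : r.Prime) (hr2 : r ≠ 2) (hgr : orderOf g = r)
    (hC : Nat.card (Subgroup.centralizer ({g} : Set G)) = r) : npairs t t g = r := by
  have hodd : Odd (Nat.card (Subgroup.centralizer ({g} : Set G))) := by
    rw [hC]
    exact hr.odd_of_ne_two hr2
  have h1 := npairs_dvd ht hg hodd
  rw [hC] at h1
  rcases (Nat.dvd_prime hr).1 h1 with h | h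
  swap
  · exact h
  exfalso
  -- two pairs
  have hti : t⁻¹ = t := inv_eq_of_mul_eq_one_left ht
  have hg1 : g ^ r = 1 := by rw [← hgr]; exact pow_orderOf_eq_one g
  have hodd' := hodd
  obtain ⟨j, hj⟩ := exists_two_mul hodd
  rw [hC] at hj
  have htg : t * g = g⁻¹ * t := by
    calc t * g = t * g * t⁻¹ * t := by group
      _ = g⁻¹ * t := by rw [hg]
  have hti2 : t * g⁻¹ * t⁻¹ = g := by
    calc t * g⁻¹ * t⁻¹ = (t * g * t⁻¹)⁻¹ := by group
      _ = g := by rw [hg, inv_inv]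
  have h3 : g⁻¹ * t = (g⁻¹) ^ j * t * ((g⁻¹) ^ j)⁻¹ :=
    mul_eq_conj (c := g⁻¹) (by rw [hti2, inv_inv]) (n := r) (by rw [inv_pow, hg1, inv_one]) hj
  have h4 : g * t = g ^ j * t * (g ^ j)⁻¹ := mul_eq_conj hg hg1 hj
  -- the pairs `(t, t g)` and `(g t, t)`
  have p1 : IsConj t t ∧ IsConj t (t * g) ∧ t * (t * g) = g :=
    ⟨IsConj.refl t, isConj_iff.2 ⟨(g⁻¹) ^ j, by rw [htg, ← h3]⟩, by rw [← mul_assoc, ht, one_mul]⟩
  have p2 : IsConj t (g * t) ∧ IsConj t t ∧ g * t * t = g :=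
    ⟨isConj_iff.2 ⟨g ^ j, h4.symm⟩, IsConj.refl t, by rw [mul_assoc, ht, mul_one]⟩
  have hss : Subsingleton {p : G × G // IsConj t p.1 ∧ IsConj t p.2 ∧ p.1 * p.2 = g} := by
    have h5 : Nat.card {p : G × G // IsConj t p.1 ∧ IsConj t p.2 ∧ p.1 * p.2 = g} = 1 := h
    exact (Nat.card_eq_one_iff_unique.1 h5).1
  have h6 := hss.elim ⟨(t, t * g), p1⟩ ⟨(g * t, t), p2⟩
  have h7 : t = g * t := congrArg (fun z => z.1.1) h6
  have h8 : g = 1 := by
    have := mul_right_cancel (a := (1 : G)) (b := t) (c := g) (by rw [one_mul]; exact h7)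
    exact this.symm
  rw [h8, orderOf_one] at hgr
  exact hr.one_lt.ne hgr

theorem npairs_congr {t s g : G} (h : IsConj t s) : npairs t t g = npairs s s g := by
  unfold npairs
  have e : ∀ x : G, IsConj t x ↔ IsConj s x := fun x => ⟨fun h1 => h.symm.trans h1, fun h1 => h.trans h1⟩
  simp only [e]

/-- the number of pairs, for all the elements of order `r` -/
theorem npairs_all [Finite G] {r : ℕ} [hr : Fact r.Prime] (hr2 : r ≠ 2) {g s t : G} (hs : s * s = 1)
    (hg : s * g * s⁻¹ = g⁻¹) (hgr : orderOf g = r) (hC : Nat.card (centralizer ({g} : Set G)) = r)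
    (hst : IsConj t s) {y : G} (hy : orderOf y = r) : npairs t t y = r := by
  have hC' : centralizer ({g} : Set G) = zpowers g := by
    symm
    apply Subgroup.eq_of_le_of_card_ge
    · rw [zpowers_le, mem_centralizer_singleton_iff]
    · rw [hC, Nat.card_zpowers, hgr]
  obtain ⟨y', hy', hy1, hyy⟩ := SmallSimple.SelfCentPrime.exists_conj_mem hgr hC' hy
  have hcy := SmallSimple.SelfCentPrime.centralizer_eq_of_mem hgr hC' hy' hy1
  obtain ⟨k, rfl⟩ := hy'
  obtain ⟨c, hc⟩ := isConj_iff.1 hyy.symm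
  have h1 : s * g ^ k * s⁻¹ = (g ^ k)⁻¹ := by
    rw [← conj_zpow, hg, inv_zpow]
  have h2 : c * s * c⁻¹ * (c * s * c⁻¹) = 1 := by
    calc c * s * c⁻¹ * (c * s * c⁻¹) = c * (s * s) * c⁻¹ := by group
      _ = 1 := by rw [hs]; group
  have h3 : c * s * c⁻¹ * y * (c * s * c⁻¹)⁻¹ = y⁻¹ := by
    rw [← hc]
    show c * s * c⁻¹ * (c * g ^ k * c⁻¹) * (c * s * c⁻¹)⁻¹ = (c * g ^ k * c⁻¹)⁻¹
    calc c * s * c⁻¹ * (c * g ^ k * c⁻¹) * (c * s * c⁻¹)⁻¹ = c * (s * g ^ k * s⁻¹) * c⁻¹ := by group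
      _ = c * (g ^ k)⁻¹ * c⁻¹ := by rw [h1]
      _ = _ := by group
  have h4 : Nat.card (centralizer ({y} : Set G)) = r := by
    rw [← Cfsg.Agent.Blocks.SylowIn.card_centralizer_of_isConj hyy]
    show Nat.card (centralizer ({g ^ k} : Set G)) = r
    have h5 : centralizer ({g ^ k} : Set G) = zpowers g := hcy
    rw [h5, Nat.card_zpowers, hgr]
  rw [npairs_congr (hst.trans (isConj_iff.2 ⟨c, rfl⟩ : IsConj s (c * s * c⁻¹)))]
  exact npairs_eq h2 h3 hr.out hr2 hy h4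

variable [Finite G] [Fintype (IrrCharacter G)]

/-- the sum over the column -/
theorem col_sum {t : G} {P : Subgroup G} {n e t' : ℕ} (he : e ≠ 0) (het : e * t' = Nat.card P - 1)
    {W : IrrCharacter G → ℤ} (hW : IsCol P e W) (hn : ∀ y ∈ P, y ≠ 1 → npairs t t y = n) :
    ∑ χ : IrrCharacter G, (χ : G → ℂ) t * (χ : G → ℂ) t * (W χ : ℂ) / (χ : G → ℂ) 1 =
      (t' * n * (Nat.card (centralizer ({t} : Set G))) ^ 2 : ℂ) / Nat.card G := by
  classical
  have hPf := Fintype.ofFinite P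
  have hG : (Nat.card G : ℂ) ≠ 0 := by exact_mod_cast Nat.card_pos.ne'
  have ha : (Nat.card (Subgroup.centralizer ({t} : Set G)) : ℂ) *
      ((Subgroup.centralizer ({t} : Set G)).index : ℂ) = (Nat.card G : ℂ) := by
    exact_mod_cast Subgroup.card_mul_index _
  have hone : ∀ y ∈ P, y ≠ 1 → ∑ χ : IrrCharacter G,
      (χ : G → ℂ) t * (χ : G → ℂ) t * conj ((χ : G → ℂ) y) / (χ : G → ℂ) 1 =
      (n * (Nat.card (centralizer ({t} : Set G))) ^ 2 : ℂ) / Nat.card G := by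
    intro y hy hy1
    have h1 := Cfsg.Agent.Characters.ClassMul.card_class_mul t t y
    have h2 : (npairs t t y : ℂ) = ((Subgroup.centralizer ({t} : Set G)).index : ℂ) *
        ((Subgroup.centralizer ({t} : Set G)).index : ℂ) / (Nat.card G : ℂ) *
        ∑ χ : IrrCharacter G, (χ : G → ℂ) t * (χ : G → ℂ) t * conj ((χ : G → ℂ) y) / (χ : G → ℂ) 1 := h1
    rw [hn y hy hy1] at h2
    have hi : ((Subgroup.centralizer ({t} : Set G)).index : ℂ) ≠ 0 := by
      exact_mod_cast Subgroup.index_ne_zero_of_finite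
    have hc : (Nat.card (Subgroup.centralizer ({t} : Set G)) : ℂ) ≠ 0 := by
      exact_mod_cast Nat.card_pos.ne'
    rw [h2, ← ha]
    field_simp
  -- sum over `P`
  have hsum : ∑ y ∈ (Finset.univ : Finset P).erase 1, ∑ χ : IrrCharacter G,
      (χ : G → ℂ) t * (χ : G → ℂ) t * conj ((χ : G → ℂ) (y : G)) / (χ : G → ℂ) 1 =
      ((Nat.card P - 1 : ℕ) : ℂ) * ((n * (Nat.card (centralizer ({t} : Set G))) ^ 2 : ℂ) / Nat.card G) := by
    rw [Finset.sum_congr rfl fun (y : P) hy => hone (y : G) y.2 fun h => (Finset.mem_erase.1 hy).1 (Subtype.ext h),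
      Finset.sum_const, nsmul_eq_mul, Finset.card_erase_of_mem (Finset.mem_univ _), Finset.card_univ,
      ← Nat.card_eq_fintype_card]
  rw [Finset.sum_comm] at hsum
  have hterm : ∀ χ : IrrCharacter G, ∑ y ∈ (Finset.univ : Finset P).erase 1,
      (χ : G → ℂ) t * (χ : G → ℂ) t * conj ((χ : G → ℂ) (y : G)) / (χ : G → ℂ) 1 =
      (e : ℂ) * ((χ : G → ℂ) t * (χ : G → ℂ) t * (W χ : ℂ) / (χ : G → ℂ) 1) := by
    intro χ
    rw [← Finset.sum_div, ← Finset.mul_sum, ← map_sum, ← csum_eq_erase, ← hW χ]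
    rw [map_mul, map_natCast, map_intCast]
    ring
  simp only [hterm] at hsum
  rw [← Finset.mul_sum, ← het] at hsum
  have he' : (e : ℂ) ≠ 0 := by exact_mod_cast he
  apply mul_left_cancel₀ he'
  rw [hsum]
  push_cast
  ring

/-- **Two primes `r`, `s` and the columns `W`, `V`.** -/
theorem two_of_ratio {p : ℕ} [hp : Fact p.Prime] (hIM : IM p G) (hG2 : ¬ p ^ 2 ∣ Nat.card G)
    {t : G} (ht : t * t = 1) (hCt : ¬ p ∣ Nat.card (centralizer ({t} : Set G)))
    (haut : ∀ σ : MulAut G, IsConj t (σ t))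
    {r s : ℕ} [hr : Fact r.Prime] [hs : Fact s.Prime] (P : Sylow r G) (Q : Sylow s G)
    {e f t₁ t₂ n₁ n₂ : ℕ} (he : e ≠ 0) (hf : f ≠ 0) (het : e * t₁ = Nat.card P - 1) (hft : f * t₂ = Nat.card Q - 1)
    {W V : IrrCharacter G → ℤ} (hW : IsCol (P : Subgroup G) e W) (hV : IsCol (Q : Subgroup G) f V)
    (hn₁ : ∀ y ∈ P, y ≠ 1 → npairs t t y = n₁) (hn₂ : ∀ y ∈ Q, y ≠ 1 → npairs t t y = n₂)
    (hp1 : ¬ p ∣ t₁ * n₁)
    (hnum : ∀ χ : IrrCharacter G, (p : ℤ) ∣ (t₂ * n₂ : ℕ) * W χ - (t₁ * n₁ : ℕ) * V χ → (p : ℤ) ∣ W χ) :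
    Two p G := by
  classical
  by_contra hno
  obtain ⟨α, hα⟩ := hIM
  have hconj : ∀ β : IrrCharacter G, p ∣ charDegree (β : G → ℂ) →
      ∃ σ : MulAut G, ∀ s : G, (α : G → ℂ) (σ s) = (β : G → ℂ) s := by
    intro β hβ
    by_contra hcon
    push Not at hcon
    exact hno ⟨α, β, hα, hβ, hcon⟩
  have hdeg : ∀ χ : IrrCharacter G, (χ : G → ℂ) 1 = (charDegree (χ : G → ℂ) : ℂ) := fun χ =>
    Cfsg.Agent.Blocks.Basic.irr_one_eq_charDegree χ.2
  have hpos : ∀ χ : IrrCharacter G, charDegree (χ : G → ℂ) ≠ 0 := fun χ =>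
    (Cfsg.Agent.Blocks.Basic.charDegree_pos χ.2).ne'
  have hT : ∀ χ : IrrCharacter G, ∃ z : ℤ, (χ : G → ℂ) t = z := fun χ =>
    exists_int_invol (isIrr_isCharacter χ.2) ht
  choose T hT using hT
  -- the characters of degree divisible by `p` look alike
  have hsame : ∀ β : IrrCharacter G, p ∣ charDegree (β : G → ℂ) → charDegree (β : G → ℂ) = charDegree (α : G → ℂ) ∧
      T β = T α ∧ W β = W α ∧ V β = V α := by
    intro β hβ
    obtain ⟨σ, hσ⟩ := hconj β hβ
    refine ⟨?_, ?_, (col_aut P he hW σ α β hσ).symm, (col_aut Q hf hV σ α β hσ).symm⟩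
    · have h1 := hσ 1
      rw [map_one, hdeg, hdeg] at h1
      exact_mod_cast h1.symm
    · have h1 := hσ t
      obtain ⟨g, hg⟩ := isConj_iff.1 (haut σ)
      rw [← hg, inner_apply, hT, hT] at h1
      exact_mod_cast h1.symm
  -- the sums
  have s1 := col_sum (t := t) he het hW hn₁
  have s2 := col_sum (t := t) hf hft hV hn₂
  obtain ⟨c, hc⟩ : ∃ c, c = Nat.card (centralizer ({t} : Set G)) := ⟨_, rfl⟩
  obtain ⟨N, hN⟩ : ∃ N, N = Nat.card G := ⟨_, rfl⟩
  rw [← hc, ← hN] at s1 s2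
  rw [← hc] at hCt
  have hN0 : (N : ℂ) ≠ 0 := by rw [hN]; exact_mod_cast Nat.card_pos.ne'
  -- the product of the other degrees
  let D : ℕ := ∏ χ : IrrCharacter G, if p ∣ charDegree (χ : G → ℂ) then 1 else charDegree (χ : G → ℂ)
  have hD : ¬ p ∣ D := by
    intro hd
    obtain ⟨χ, -, hχ⟩ := (Prime.dvd_finsetProd_iff hp.out.prime _).1 hd
    split_ifs at hχ with h1
    · exact hp.out.one_lt.ne' (Nat.dvd_one.1 hχ)
    · exact h1 hχ
  have hDd : ∀ χ : IrrCharacter G, ¬ p ∣ charDegree (χ : G → ℂ) → ∃ k : ℕ, D = charDegree (χ : G → ℂ) * k := by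
    intro χ hχ
    have h1 : (if p ∣ charDegree (χ : G → ℂ) then 1 else charDegree (χ : G → ℂ)) ∣ D :=
      Finset.dvd_prod_of_mem _ (Finset.mem_univ χ)
    rw [if_neg hχ] at h1
    exact h1
  -- the sum of the other terms is an integer after multiplication by `D`
  have hint : ∀ U : IrrCharacter G → ℤ, ∃ z : ℤ, (D : ℂ) * ∑ χ : IrrCharacter G,
      (if p ∣ charDegree (χ : G → ℂ) then 0 else (χ : G → ℂ) t * (χ : G → ℂ) t * (U χ : ℂ) / (χ : G → ℂ) 1) = z := by
    intro U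
    have h1 : ∀ χ : IrrCharacter G, ∃ z : ℤ, (D : ℂ) *
        (if p ∣ charDegree (χ : G → ℂ) then 0 else (χ : G → ℂ) t * (χ : G → ℂ) t * (U χ : ℂ) / (χ : G → ℂ) 1) = z := by
      intro χ
      split_ifs with h
      · exact ⟨0, by simp⟩
      · obtain ⟨k, hk⟩ := hDd χ h
        refine ⟨k * (T χ * T χ * U χ), ?_⟩
        have h2 : (charDegree (χ : G → ℂ) : ℂ) ≠ 0 := by exact_mod_cast hpos χ
        rw [hdeg, hT, hk]
        push_cast
        field_simp
    choose z hz using h1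
    refine ⟨∑ χ, z χ, ?_⟩
    rw [Finset.mul_sum]
    push_cast
    exact Finset.sum_congr rfl fun χ _ => hz χ
  -- the other part
  obtain ⟨m, hm⟩ : ∃ m : ℕ, m = (Finset.univ.filter fun χ : IrrCharacter G => p ∣ charDegree (χ : G → ℂ)).card := ⟨_, rfl⟩
  have hpart : ∀ (U : IrrCharacter G → ℤ) (u : ℤ), (∀ β : IrrCharacter G, p ∣ charDegree (β : G → ℂ) → U β = u) →
      ∑ χ : IrrCharacter G, (χ : G → ℂ) t * (χ : G → ℂ) t * (U χ : ℂ) / (χ : G → ℂ) 1 =
      ∑ χ : IrrCharacter G, (if p ∣ charDegree (χ : G → ℂ) then 0 else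
        (χ : G → ℂ) t * (χ : G → ℂ) t * (U χ : ℂ) / (χ : G → ℂ) 1) +
      (m : ℂ) * ((T α * T α * u : ℤ) : ℂ) / charDegree (α : G → ℂ) := by
    intro U u hU
    have h1 : ∀ χ : IrrCharacter G, (χ : G → ℂ) t * (χ : G → ℂ) t * (U χ : ℂ) / (χ : G → ℂ) 1 =
        (if p ∣ charDegree (χ : G → ℂ) then 0 else
          (χ : G → ℂ) t * (χ : G → ℂ) t * (U χ : ℂ) / (χ : G → ℂ) 1) +
        (if p ∣ charDegree (χ : G → ℂ) then ((T α * T α * u : ℤ) : ℂ) / charDegree (α : G → ℂ) else 0) := by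
      intro χ
      split_ifs with h
      · obtain ⟨h1, h2, -, -⟩ := hsame χ h
        rw [zero_add, hdeg, hT, h1, h2, hU χ h]
        push_cast
        rfl
      · rw [add_zero]
    rw [Finset.sum_congr rfl fun χ _ => h1 χ, Finset.sum_add_distrib]
    congr 1
    rw [← Finset.sum_filter, Finset.sum_const, ← hm, nsmul_eq_mul]
    ring
  have q1 := hpart W (W α) fun β hβ => (hsame β hβ).2.2.1
  obtain ⟨U, hU⟩ : ∃ U : IrrCharacter G → ℤ, U = fun χ => (t₂ * n₂ : ℕ) * W χ - (t₁ * n₁ : ℕ) * V χ := ⟨_, rfl⟩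
  have q2 := hpart U (U α) fun β hβ => by
    obtain ⟨-, -, h3, h4⟩ := hsame β hβ
    rw [hU]
    show (t₂ * n₂ : ℕ) * W β - (t₁ * n₁ : ℕ) * V β = (t₂ * n₂ : ℕ) * W α - (t₁ * n₁ : ℕ) * V α
    rw [h3, h4]
  have s3 : ∑ χ : IrrCharacter G, (χ : G → ℂ) t * (χ : G → ℂ) t * (U χ : ℂ) / (χ : G → ℂ) 1 = 0 := by
    have h1 : ∀ χ : IrrCharacter G, (χ : G → ℂ) t * (χ : G → ℂ) t * (U χ : ℂ) / (χ : G → ℂ) 1 =
        (t₂ * n₂ : ℂ) * ((χ : G → ℂ) t * (χ : G → ℂ) t * (W χ : ℂ) / (χ : G → ℂ) 1) -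
        (t₁ * n₁ : ℂ) * ((χ : G → ℂ) t * (χ : G → ℂ) t * (V χ : ℂ) / (χ : G → ℂ) 1) := by
      intro χ
      rw [hU]
      push_cast
      ring
    rw [Finset.sum_congr rfl fun χ _ => h1 χ, Finset.sum_sub_distrib, ← Finset.mul_sum, ← Finset.mul_sum, s1, s2]
    ring
  obtain ⟨z1, hz1⟩ := hint W
  obtain ⟨z2, hz2⟩ := hint U
  -- arithmetic
  obtain ⟨d, hd⟩ : ∃ d, d = charDegree (α : G → ℂ) := ⟨_, rfl⟩
  rw [← hd] at q1 q2 hα
  have hd0 : (d : ℂ) ≠ 0 := by rw [hd]; exact_mod_cast hpos α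
  obtain ⟨d', hd'⟩ := hα
  have hdN : d ∣ N := by
    rw [hd, hN]
    exact Blocks.Knorr.charDegree_dvd α.2
  have hpd' : ¬ p ∣ d' := by
    intro h
    apply hG2
    rw [← hN]
    refine Dvd.dvd.trans ?_ hdN
    rw [hd', pow_two]
    exact Nat.mul_dvd_mul_left p h
  obtain ⟨k, hk⟩ := hdN
  have hpk : ¬ p ∣ k := by
    intro h
    apply hG2
    rw [← hN, hk, hd', pow_two, mul_assoc]
    exact Nat.mul_dvd_mul_left p (h.trans (Dvd.intro_left d' rfl))
  have hk0 : (k : ℂ) ≠ 0 := by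
    intro h
    apply hN0
    rw [hk]
    push_cast
    rw [h, mul_zero]
  -- first relation
  have a1 : (D : ℤ) * (t₁ * n₁ * c ^ 2 : ℕ) = z1 * (N : ℤ) + (D : ℤ) * m * (T α * T α * W α) * k := by
    have h1 : (D : ℂ) * ((t₁ * n₁ * c ^ 2 : ℂ) / N) = z1 + D * ((m : ℂ) * ((T α * T α * W α : ℤ) : ℂ) / d) := by
      rw [← s1, q1, mul_add, hz1]
    have h2 : ((D : ℤ) * (t₁ * n₁ * c ^ 2 : ℕ) : ℂ) = ((z1 * (N : ℤ) + (D : ℤ) * m * (T α * T α * W α) * k : ℤ) : ℂ) := by
      have h3 : (N : ℂ) = d * k := by rw [hk]; push_cast; ring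
      have h4 : (D : ℂ) * (t₁ * n₁ * c ^ 2 : ℂ) = (D : ℂ) * ((t₁ * n₁ * c ^ 2 : ℂ) / N) * N := by
        field_simp
      push_cast
      push_cast at h4
      rw [h4, h1, h3]
      push_cast
      field_simp
    exact_mod_cast h2
  have a2 : (0 : ℤ) = z2 * (N : ℤ) + (D : ℤ) * m * (T α * T α * U α) * k := by
    have h1 : (0 : ℂ) = z2 + D * ((m : ℂ) * ((T α * T α * U α : ℤ) : ℂ) / d) := by
      rw [← hz2, ← mul_add, ← q2, s3, mul_zero]
    have h2 : ((0 : ℤ) : ℂ) = ((z2 * (N : ℤ) + (D : ℤ) * m * (T α * T α * U α) * k : ℤ) : ℂ) := by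
      have h3 : (N : ℂ) = d * k := by rw [hk]; push_cast; ring
      have h4 : (0 : ℂ) = 0 * N := by ring
      push_cast
      rw [h4, h1, h3]
      push_cast
      field_simp
    exact_mod_cast h2
  have hpN : (p : ℤ) ∣ N := by
    rw [hk, hd']
    push_cast
    exact Dvd.intro _ (by ring : (p : ℤ) * (d' * k) = _)
  have hpz : Prime (p : ℤ) := Nat.prime_iff_prime_int.1 hp.out
  have cast_not : ∀ a : ℕ, ¬ p ∣ a → ¬ (p : ℤ) ∣ a := fun a h h1 => h (by exact_mod_cast h1)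
  have b1 : ¬ (p : ℤ) ∣ (D : ℤ) * m * (T α * T α * W α) * k := by
    intro h
    have h1 : (p : ℤ) ∣ (D : ℤ) * (t₁ * n₁ * c ^ 2 : ℕ) := by
      rw [a1]
      exact dvd_add (hpN.mul_left _) h
    rcases hpz.dvd_or_dvd h1 with h1 | h1
    · exact cast_not _ hD h1
    · have h2 : p ∣ t₁ * n₁ * c ^ 2 := by exact_mod_cast h1
      rcases hp.out.dvd_mul.1 h2 with h2 | h2
      · exact hp1 h2
      · exact hCt (hp.out.dvd_of_dvd_pow h2)
  have b2 : (p : ℤ) ∣ (D : ℤ) * m * (T α * T α * U α) * k := by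
    have h1 : (D : ℤ) * m * (T α * T α * U α) * k = -(z2 * N) := by linear_combination -a2
    rw [h1]
    exact (hpN.mul_left _).neg_right
  have b3 : (p : ℤ) ∣ U α := by
    have n1 : ¬ (p : ℤ) ∣ D := fun h => b1 (by
      have := h.mul_right ((m : ℤ) * (T α * T α * W α) * k); rwa [← mul_assoc, ← mul_assoc] at this)
    have n2 : ¬ (p : ℤ) ∣ m := fun h => b1 (by
      have := h.mul_left (D : ℤ); exact (this.mul_right _).mul_right _)
    have n3 : ¬ (p : ℤ) ∣ T α := fun h => b1 (by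
      exact Dvd.dvd.mul_right (Dvd.dvd.mul_left ((h.mul_right (T α)).mul_right (W α)) _) _)
    rcases hpz.dvd_or_dvd b2 with h | h
    · rcases hpz.dvd_or_dvd h with h | h
      · rcases hpz.dvd_or_dvd h with h | h
        · exact absurd h n1
        · exact absurd h n2
      · rcases hpz.dvd_or_dvd h with h | h
        · rcases hpz.dvd_or_dvd h with h | h
          · exact absurd h n3
          · exact absurd h n3
        · exact h
    · exact absurd h (cast_not _ hpk)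
  rw [hU] at b3
  have b4 := hnum α b3
  exact b1 (Dvd.dvd.mul_right (Dvd.dvd.mul_left (b4.mul_left (T α * T α)) _) _)

end Cfsg.Agent.H892.Two
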