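import Cfsg.Agent.H651.Two.Row
import Cfsg.Agent.H651.Two.Count
import Cfsg.Agent.H163.Steinberg

/-!
# Tools for the sporadic rows of `FactTwo` (helper892)

* `classes_le_surj` : `x` of order `p`, `p² ∤ |C(x)|`, `f : C(x) → K` onto with kernel of order `p`:
  `k(G) ≤ ND p G + p * numReg p K`;
* `classes_le_mul` : `x` of order `p`, `|C(x)| = p * m`, `p ∤ m`: `k(G) ≤ ND p G + p * m`;
* `exists_full` : the Steinberg character of a group with a split (B,N)-pair;
* `three_le_of_compl` : `x` of odd order `p`, `C(x) = ⟨x⟩ × L`, a character of defect zero of `L`.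
-/

set_option autoImplicit false
set_option linter.unusedSectionVars false

open Cfsg

namespace Cfsg.Agent.H892.Two

open Cfsg.Agent.H651.Two Cfsg.Agent.H596.OneFacts Cfsg.Agent.H33 Subgroup
open Cfsg.Agent.Blocks.Basic Cfsg.Agent.Blocks.Local
open Cfsg.Agent.H593.IMCount

universe u v

variable {G : Type u} [Group G] [Finite G] {p : ℕ} [hp : Fact p.Prime]

theorem fact_le_one {c : ℕ} (h0 : c ≠ 0) (hC : ¬ p ^ 2 ∣ c) : c.factorization p ≤ 1 := by
  by_contra hcon
  push Not at hcon
  exact hC ((hp.out.pow_dvd_iff_le_factorization h0).2 hcon)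

/-- `f : C(x) → K` onto with kernel of order `p`. -/
theorem classes_le_surj {x : G} (hx : orderOf x = p)
    (hC : ¬ p ^ 2 ∣ Nat.card (centralizer ({x} : Set G))) {K : Type v} [Group K] [Finite K]
    (f : centralizer ({x} : Set G) →* K) (hf : Function.Surjective f) (hk : IsPGroup p f.ker) :
    Nat.card (ConjClasses G) ≤ ND p G + p * numReg p K := by
  refine (classes_le (x := x) ⟨1, by rw [hx, pow_one]⟩).trans (Nat.add_le_add_left ?_ _)
  refine Nat.mul_le_mul ?_ (numReg_le_of_surjective f hf hk)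
  calc p ^ (Nat.card (centralizer ({x} : Set G))).factorization p ≤ p ^ 1 :=
        Nat.pow_le_pow_right hp.out.pos (fact_le_one Nat.card_pos.ne' hC)
    _ = p := pow_one p

theorem conjClasses_le_card (K : Type v) [Group K] [Finite K] : Nat.card (ConjClasses K) ≤ Nat.card K :=
  Nat.card_le_card_of_surjective (ConjClasses.mk : K → ConjClasses K) (fun c => ConjClasses.exists_rep c)

/-- `|C(x)| = p * m`. -/
theorem classes_le_mul {x : G} (hx : orderOf x = p) {m : ℕ} (hm : ¬ p ∣ m)
    (hC : Nat.card (centralizer ({x} : Set G)) = p * m) :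
    Nat.card (ConjClasses G) ≤ ND p G + p * m := by
  have hx1 : x ∈ centralizer ({x} : Set G) := mem_centralizer_singleton_iff.2 rfl
  let x' : centralizer ({x} : Set G) := ⟨x, hx1⟩
  have hcen : ∀ c : centralizer ({x} : Set G), c * x' = x' * c := fun c =>
    Subtype.ext (mem_centralizer_singleton_iff.1 c.2)
  have hN : (zpowers x').Normal := by
    refine ⟨fun n hn g => ?_⟩
    obtain ⟨k, rfl⟩ := hn
    have h1 : Commute g (x' ^ k) := (show Commute g x' from hcen g).zpow_right k
    show g * x' ^ k * g⁻¹ ∈ _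
    rw [h1.eq, mul_inv_cancel_right]
    exact zpow_mem (mem_zpowers _) _
  have hcN : Nat.card (zpowers x') = p := by
    rw [Nat.card_zpowers, Subgroup.orderOf_mk, hx]
  have h1 := classes_le_surj hx (by
    rw [hC, pow_two]
    exact fun h => hm ((Nat.mul_dvd_mul_iff_left hp.out.pos).1 h))
    (QuotientGroup.mk' (zpowers x')) (QuotientGroup.mk'_surjective _) (by
      rw [QuotientGroup.ker_mk']
      exact IsPGroup.iff_card.2 ⟨1, by rw [hcN, pow_one]⟩)
  refine h1.trans (Nat.add_le_add_left (Nat.mul_le_mul_left _ ?_) _)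
  refine numReg_le_card.trans ((conjClasses_le_card _).trans (le_of_eq ?_))
  have h2 := (zpowers x').card_eq_card_quotient_mul_card_subgroup
  rw [hC, hcN, mul_comm] at h2
  exact (Nat.eq_of_mul_eq_mul_right hp.out.pos h2).symm

/-- **The Steinberg character.** -/
theorem exists_full {K : Type u} [Group K] [Finite K] (h : FixBN.HasSplit p K) :
    ∃ θ : IrrCharacter K, (Nat.card K).factorization p ≤ (charDegree (θ : K → ℂ)).factorization p := by
  obtain ⟨χ, hχ, h1⟩ := H163.Steinberg.exists_irr_of_hasSplit h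
  obtain ⟨Q⟩ : Nonempty (Sylow p K) := inferInstance
  obtain ⟨h2, -⟩ := h1 Q
  refine ⟨⟨χ, hχ⟩, ?_⟩
  have h3 : charDegree χ = Nat.card Q := H670.PSing.charDegree_eq_of h2
  show _ ≤ (charDegree χ).factorization p
  rw [h3, Q.card_eq_multiplicity, hp.out.factorization_pow, Finsupp.single_eq_same]

/-- transport of a character of full defect -/
theorem full_of_equiv {K : Type u} {L : Type v} [Group K] [Group L] [Finite K] [Finite L] (e : K ≃* L)
    (h : ∃ θ : IrrCharacter L, (Nat.card L).factorization p ≤ (charDegree (θ : L → ℂ)).factorization p) :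
    ∃ θ : IrrCharacter K, (Nat.card K).factorization p ≤ (charDegree (θ : K → ℂ)).factorization p := by
  obtain ⟨θ, hθ⟩ := h
  refine ⟨⟨(θ : L → ℂ) ∘ e, Cfsg.Agent.Characters.Core.isIrr_comp e.toMonoidHom e.surjective θ.2⟩, ?_⟩
  have h1 : charDegree ((θ : L → ℂ) ∘ e) = charDegree (θ : L → ℂ) := by
    simp only [charDegree, Function.comp_apply, map_one]
  show _ ≤ (charDegree ((θ : L → ℂ) ∘ e)).factorization p
  rw [h1, Nat.card_congr e.toEquiv]
  exact hθ

/-- `C(x) = ⟨x⟩ × L`. -/
theorem three_le_of_compl {x : G} (hx : orderOf x = p) (hp2 : p ≠ 2) (hG : p ^ 2 ∣ Nat.card G)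
    {L : Subgroup G} (hL : L ≤ centralizer ({x} : Set G)) (hi : zpowers x ⊓ L = ⊥)
    (hc : Nat.card (centralizer ({x} : Set G)) = p * Nat.card L)
    (h : ∃ θ : IrrCharacter L, (Nat.card L).factorization p ≤ (charDegree (θ : L → ℂ)).factorization p) :
    3 ≤ ND p G := by
  have hx1 : x ∈ centralizer ({x} : Set G) := mem_centralizer_singleton_iff.2 rfl
  let x' : centralizer ({x} : Set G) := ⟨x, hx1⟩
  have hcen : ∀ c : centralizer ({x} : Set G), c * x' = x' * c := fun c =>
    Subtype.ext (mem_centralizer_singleton_iff.1 c.2)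
  have hN : (zpowers x').Normal := by
    refine ⟨fun n hn g => ?_⟩
    obtain ⟨k, rfl⟩ := hn
    have h1 : Commute g (x' ^ k) := (show Commute g x' from hcen g).zpow_right k
    show g * x' ^ k * g⁻¹ ∈ _
    rw [h1.eq, mul_inv_cancel_right]
    exact zpow_mem (mem_zpowers _) _
  have hcN : Nat.card (zpowers x') = p := by
    rw [Nat.card_zpowers, Subgroup.orderOf_mk, hx]
  have hcL : Nat.card (L.subgroupOf (centralizer ({x} : Set G))) = Nat.card L :=
    Nat.card_congr (subgroupOfEquivOfLe hL).toEquiv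
  have hcomp : IsComplement' (L.subgroupOf (centralizer ({x} : Set G))) (zpowers x') := by
    apply isComplement'_of_card_mul_and_disjoint
    · rw [hcL, hcN, hc, mul_comm]
    · rw [disjoint_iff, eq_bot_iff]
      rintro y ⟨h1, h2⟩
      obtain ⟨k, rfl⟩ := h2
      have h3 : x ^ k ∈ zpowers x ⊓ L := ⟨zpow_mem (mem_zpowers x) k, h1⟩
      rw [hi, mem_bot] at h3
      rw [mem_bot]
      exact Subtype.ext h3
  have e := (hcomp.QuotientMulEquiv).trans (subgroupOfEquivOfLe hL)
  refine three_le_of_quotient hx hp2 hG (QuotientGroup.mk' (zpowers x')) (QuotientGroup.mk'_surjective _) ?_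
    (full_of_equiv e h)
  rw [hc, Nat.factorization_mul hp.out.pos.ne' Nat.card_pos.ne', Finsupp.add_apply,
    hp.out.factorization_self, Nat.card_congr e.toEquiv, add_comm]

end Cfsg.Agent.H892.Two
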